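import Groth.Agent.Lib.Helper5.WEt.Basic

namespace Helper5.WEt
open TensorProduct

universe u

/-- In a ring where `x ∈ (x²)` for every `x`, finitely generated ideals are generated by an idempotent. -/
lemma fg_ideal_eq_span_idempotent {R : Type*} [CommRing R] (h : ∀ x : R, ∃ y, x = x * x * y)
    (I : Ideal R) (hI : I.FG) : ∃ e, IsIdempotentElem e ∧ I = Ideal.span {e} := by
  induction I, hI using Submodule.fg_induction with
  | singleton x =>
    obtain ⟨y, hy⟩ := h x
    refine ⟨x * y, ?_, ?_⟩
    · unfold IsIdempotentElem
      calc x * y * (x * y) = (x * x * y) * y := by ring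
        _ = x * y := by rw [← hy]
    · apply le_antisymm
      · rw [Submodule.span_le, Set.singleton_subset_iff]
        refine Ideal.mem_span_singleton'.mpr ⟨x, ?_⟩
        calc x * (x * y) = x * x * y := by ring
          _ = x := hy.symm
      · rw [Ideal.span_le, Set.singleton_subset_iff]
        exact Ideal.mul_mem_right _ _ (Ideal.subset_span rfl)
  | sup I J _ _ hI hJ =>
    obtain ⟨e, he, rfl⟩ := hI
    obtain ⟨f, hf, rfl⟩ := hJ
    refine ⟨e + f - e * f, ?_, ?_⟩
    · unfold IsIdempotentElem at *
      calc (e + f - e * f) * (e + f - e * f)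
          = e * e + f * f + 2 * e * f - 2 * (e * e) * f - 2 * e * (f * f) + (e * e) * (f * f) := by ring
        _ = e + f - e * f := by rw [he, hf]; ring
    · apply le_antisymm
      · rw [sup_le_iff, Ideal.span_le, Ideal.span_le, Set.singleton_subset_iff, Set.singleton_subset_iff]
        constructor
        · refine Ideal.mem_span_singleton'.mpr ⟨e, ?_⟩
          unfold IsIdempotentElem at he
          calc e * (e + f - e * f) = e * e + e * f - (e * e) * f := by ring
            _ = e := by rw [he]; ring
        · refine Ideal.mem_span_singleton'.mpr ⟨f, ?_⟩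
          unfold IsIdempotentElem at hf
          calc f * (e + f - e * f) = e * f + f * f - e * (f * f) := by ring
            _ = f := by rw [hf]; ring
      · rw [Ideal.span_le, Set.singleton_subset_iff]
        have h1 : e ∈ Ideal.span {e} ⊔ Ideal.span {f} := Ideal.mem_sup_left (Ideal.subset_span rfl)
        have h2 : f ∈ Ideal.span {e} ⊔ Ideal.span {f} := Ideal.mem_sup_right (Ideal.subset_span rfl)
        exact Ideal.sub_mem _ (Ideal.add_mem _ h1 h2) (Ideal.mul_mem_right _ _ h1)

/-- Over a von Neumann regular ring every module is flat. -/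
theorem flat_of_vnr {R : Type u} [CommRing R] (h : ∀ x : R, ∃ y, x = x * x * y)
    (M : Type*) [AddCommGroup M] [Module R M] : Module.Flat R M := by
  rw [Module.Flat.iff_rTensor_injective]
  intro I hI
  obtain ⟨e, he, rfl⟩ := fg_ideal_eq_span_idempotent h I hI
  -- retraction
  let r : R →ₗ[R] (Ideal.span {e} : Ideal R) :=
    { toFun := fun x => ⟨x * e, Ideal.mul_mem_left _ _ (Ideal.subset_span rfl)⟩
      map_add' := fun x y => by ext; simp [add_mul]
      map_smul' := fun c x => by ext; simp [mul_assoc] }
  have hr : r ∘ₗ (Ideal.span {e} : Ideal R).subtype = LinearMap.id := by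
    ext ⟨i, hi⟩
    obtain ⟨c, rfl⟩ := Ideal.mem_span_singleton'.mp hi
    simp only [LinearMap.coe_comp, Function.comp_apply, Submodule.subtype_apply, LinearMap.id_apply]
    change c * e * e = c * e
    rw [mul_assoc, he]
  have : (r.rTensor M) ∘ₗ ((Ideal.span {e} : Ideal R).subtype.rTensor M) = LinearMap.id := by
    rw [← LinearMap.rTensor_comp, hr, LinearMap.rTensor_id]
  exact Function.LeftInverse.injective (g := r.rTensor M) (fun x => by
    have := congrArg (fun φ => φ x) this
    simpa using this)

/-- A ring all of whose cyclic quotients are flat is reduced. -/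
theorem isReduced_of_flat_quotients (C : Type*) [CommRing C]
    (h : ∀ x : C, Module.Flat C (C ⧸ Ideal.span {x})) : IsReduced C := by
  -- every x lies in (x^2)
  have key : ∀ x : C, ∃ d, x = x * x * d := by
    intro x
    have := h x
    have hrel : ∑ i : Unit, (fun _ => x) i • (fun _ => (Ideal.Quotient.mk (Ideal.span {x}) 1)) i = 0 := by
      simp only [Finset.univ_unique, Finset.sum_singleton]
      rw [← Ideal.Quotient.mk_eq_mk, ← Submodule.Quotient.mk_smul]
      simp
    obtain ⟨k, a, y, hy, ha⟩ := Module.Flat.isTrivialRelation_of_sum_smul_eq_zero hrel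
    choose c hc using fun j => Ideal.Quotient.mk_surjective (y j)
    have h1 : Ideal.Quotient.mk (Ideal.span {x}) (1 - ∑ j, a () j * c j) = 0 := by
      have hy' : (Ideal.Quotient.mk (Ideal.span {x})) 1 = ∑ j, a () j • y j := hy ()
      rw [map_sub, map_sum, hy', sub_eq_zero]
      refine Finset.sum_congr rfl fun j _ => ?_
      rw [← hc j, map_mul]
      rfl
    rw [Ideal.Quotient.eq_zero_iff_mem, Ideal.mem_span_singleton'] at h1
    obtain ⟨d, hd⟩ := h1
    refine ⟨d, ?_⟩
    have h2 : ∀ j, x * a () j = 0 := fun j => by simpa using ha j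
    have h3 : x * (1 - ∑ j, a () j * c j) = x := by
      rw [mul_sub, mul_one, Finset.mul_sum]
      have : ∑ j, x * (a () j * c j) = 0 :=
        Finset.sum_eq_zero fun j _ => by rw [← mul_assoc, h2, zero_mul]
      rw [this, sub_zero]
    calc x = x * (1 - ∑ j, a () j * c j) := h3.symm
      _ = x * (d * x) := by rw [hd]
      _ = x * x * d := by ring
  refine ⟨fun x hx => ?_⟩
  obtain ⟨n, hn⟩ := hx
  induction n using Nat.strong_induction_on generalizing x with
  | _ n ih =>
    rcases n with _ | _ | n
    · -- x^0 = 0: ring trivial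
      rw [pow_zero] at hn
      calc x = x * 1 := (mul_one x).symm
        _ = 0 := by rw [hn, mul_zero]
    · simpa using hn
    · obtain ⟨d, hd⟩ := key x
      -- x^(n+1) = x^(n+2) d = 0
      have : x ^ (n + 1) = 0 := by
        calc x ^ (n + 1) = x ^ n * x := pow_succ x n
          _ = x ^ n * (x * x * d) := by rw [← hd]
          _ = x ^ (n + 2) * d := by ring
          _ = 0 := by rw [hn, zero_mul]
      exact ih (n + 1) (by omega) x this

/-- Stacks 092I-type: if every `A`-module is flat and `A → B` is weakly étale, then `B` is reduced. -/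
theorem isReduced_of_weaklyEtale_of_absFlat (A B : Type u) [CommRing A] [CommRing B] [Algebra A B]
    (hA : ∀ (M : Type u) [AddCommGroup M] [Module A M], Module.Flat A M)
    (hB : (Algebra.TensorProduct.lmul' A (S := B)).Flat) : IsReduced B := by
  refine isReduced_of_flat_quotients B fun x => ?_
  have := hA (B ⧸ Ideal.span {x})
  exact flat_of_flat_lmul' A B hB _

/-- Stacks 092I: weakly étale over a reduced ring is reduced. -/
theorem isReduced_of_weaklyEtale (A B : Type u) [CommRing A] [CommRing B] [Algebra A B] [IsReduced A]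
    [Algebra.WeaklyEtale A B] : IsReduced B := by
  let A' := ∀ p : PrimeSpectrum A, p.asIdeal.ResidueField
  have hinj : Function.Injective (algebraMap A A') := by
    rw [injective_iff_map_eq_zero]
    intro a ha
    have h1 : ∀ p : PrimeSpectrum A, a ∈ p.asIdeal := fun p => by
      have h0 : algebraMap A p.asIdeal.ResidueField a = 0 := congrFun ha p
      exact Ideal.algebraMap_residueField_eq_zero.mp h0
    have h2 : a ∈ nilradical A := by
      rw [nilradical_eq_sInf, Ideal.mem_sInf]
      intro P hP
      exact h1 ⟨P, hP⟩
    rw [nilradical_eq_zero] at h2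
    simpa using h2
  have hvnr : ∀ x : A', ∃ y, x = x * x * y := by
    intro x
    refine ⟨fun p => (x p)⁻¹, ?_⟩
    funext p
    change x p = x p * x p * (x p)⁻¹
    by_cases hx : x p = 0
    · simp [hx]
    · field_simp
  have hA' : ∀ (M : Type u) [AddCommGroup M] [Module A' M], Module.Flat A' M :=
    fun M _ _ => flat_of_vnr hvnr M
  have hred : IsReduced (A' ⊗[A] B) :=
    isReduced_of_weaklyEtale_of_absFlat A' (A' ⊗[A] B) hA' (Algebra.WeaklyEtale.flat_lmul' A' (A' ⊗[A] B))
  have hinj' : Function.Injective (Algebra.TensorProduct.includeRight : B →ₐ[A] A' ⊗[A] B) :=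
    Algebra.TensorProduct.includeRight_injective hinj
  exact isReduced_of_injective _ hinj'

end Helper5.WEt
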