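import Groth.Agent.Lib.Helper5.WEt.AbsFlat

open AlgebraicGeometry CategoryTheory Limits TensorProduct

namespace Helper5.WEt

universe u

set_option backward.isDefEq.respectTransparency.types false in
lemma weaklyEtale_Spec_iff (A B : Type u) [CommRing A] [CommRing B] [Algebra A B] :
    WeaklyEtale (Spec.map (CommRingCat.ofHom (algebraMap A B))) ↔ Algebra.WeaklyEtale A B := by
  rw [weaklyEtale_iff, Algebra.weaklyEtale_iff, diagonal_SpecMap]
  simp only [autoParam]
  rw [MorphismProperty.cancel_right_of_respectsIso @Flat,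
    HasRingHomProperty.Spec_iff (P := @Flat), HasRingHomProperty.Spec_iff (P := @Flat)]
  simp [RingHom.flat_algebraMap_iff]

lemma weaklyEtale_Spec_iff' {R S : CommRingCat.{u}} (φ : R ⟶ S) :
    WeaklyEtale (Spec.map φ) ↔ (letI := φ.hom.toAlgebra; Algebra.WeaklyEtale R S) := by
  letI := φ.hom.toAlgebra
  exact weaklyEtale_Spec_iff R S

set_option backward.isDefEq.respectTransparency.types false in
lemma weaklyEtale_Spec_arrow_iso {A B A' B' : CommRingCat.{u}} (a : A ⟶ B) (b : A' ⟶ B')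
    (e : Arrow.mk a ≅ Arrow.mk b) : WeaklyEtale (Spec.map a) ↔ WeaklyEtale (Spec.map b) := by
  have w : e.hom.left ≫ b = a ≫ e.hom.right := e.hom.w
  have w' : Spec.map b ≫ Spec.map e.hom.left = Spec.map e.hom.right ≫ Spec.map a := by
    rw [← Spec.map_comp, ← Spec.map_comp, w]
  have h1 : WeaklyEtale (Spec.map b) ↔ WeaklyEtale (Spec.map b ≫ Spec.map e.hom.left) :=
    (MorphismProperty.cancel_right_of_respectsIso @WeaklyEtale _ _).symm
  have h2 : WeaklyEtale (Spec.map a) ↔ WeaklyEtale (Spec.map e.hom.right ≫ Spec.map a) :=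
    (MorphismProperty.cancel_left_of_respectsIso @WeaklyEtale _ _).symm
  rw [h1, h2, w']

set_option backward.isDefEq.respectTransparency.types false in
theorem weaklyEtale_resLE_iff {X S : Scheme.{u}} (f : X ⟶ S) (U : X.Opens) (V : S.Opens)
    (hU : IsAffineOpen U) (hV : IsAffineOpen V) (hUV : U ≤ f ⁻¹ᵁ V) :
    WeaklyEtale (f.resLE V U hUV) ↔
      (letI := (f.appLE V U hUV).hom.toAlgebra; Algebra.WeaklyEtale Γ(S, V) Γ(X, U)) := by
  have : IsAffine U.toScheme := hU
  have : IsAffine V.toScheme := hV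
  rw [← weaklyEtale_Spec_iff', MorphismProperty.arrow_mk_iso_iff @WeaklyEtale (arrowIsoSpecΓOfIsAffine _)]
  exact weaklyEtale_Spec_arrow_iso _ _ (arrowResLEAppIso f V U hUV)

set_option backward.isDefEq.respectTransparency.types false in
theorem weaklyEtale_iff_forall_affineOpens {X S : Scheme.{u}} (f : X ⟶ S) :
    WeaklyEtale f ↔ ∀ (U : X.Opens) (V : S.Opens) (_ : IsAffineOpen U) (_ : IsAffineOpen V) (hUV : U ≤ f ⁻¹ᵁ V),
      (letI := (f.appLE V U hUV).hom.toAlgebra
       Algebra.WeaklyEtale Γ(S, V) Γ(X, U)) := by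
  constructor
  · intro hf U V hU hV hUV
    exact (weaklyEtale_resLE_iff f U V hU hV hUV).mp inferInstance
  · intro H
    have : MorphismProperty.RespectsRight (@WeaklyEtale) @IsOpenImmersion :=
      ⟨fun i hi g hg => by
        have : IsOpenImmersion i := hi
        have : WeaklyEtale g := hg
        exact inferInstanceAs (WeaklyEtale (g ≫ i))⟩
    refine (IsZariskiLocalAtSource.iff_exists_resLE (P := @WeaklyEtale)).mpr fun x => ?_
    obtain ⟨_, ⟨V, hV : IsAffineOpen V, rfl⟩, hxV, -⟩ := S.isBasis_affineOpens.exists_subset_of_mem_open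
      (Set.mem_univ (f.base x)) isOpen_univ
    obtain ⟨_, ⟨U, hU : IsAffineOpen U, rfl⟩, hxU, hUV⟩ := X.isBasis_affineOpens.exists_subset_of_mem_open
      (show x ∈ (f ⁻¹ᵁ V : Set X) from hxV) (f ⁻¹ᵁ V).isOpen
    exact ⟨V, U, hxU, hUV, (weaklyEtale_resLE_iff f U V hU hV hUV).mpr (H U V hU hV hUV)⟩

theorem isReduced_of_weaklyEtale_scheme {X Y : Scheme.{u}} (f : X ⟶ Y) [WeaklyEtale f] [IsReduced Y] :
    IsReduced X := by
  have : ∀ x : X, _root_.IsReduced (X.presheaf.stalk x) := by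
    intro x
    obtain ⟨_, ⟨V, hV : IsAffineOpen V, rfl⟩, hxV, -⟩ := Y.isBasis_affineOpens.exists_subset_of_mem_open
      (Set.mem_univ (f.base x)) isOpen_univ
    obtain ⟨_, ⟨U, hU : IsAffineOpen U, rfl⟩, hxU, hUV⟩ := X.isBasis_affineOpens.exists_subset_of_mem_open
      (show x ∈ (f ⁻¹ᵁ V : Set X) from hxV) (f ⁻¹ᵁ V).isOpen
    letI := (f.appLE V U hUV).hom.toAlgebra
    have hW : Algebra.WeaklyEtale Γ(Y, V) Γ(X, U) :=
      (weaklyEtale_iff_forall_affineOpens f).mp ‹_› U V hU hV hUV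
    have hred : _root_.IsReduced Γ(X, U) := isReduced_of_weaklyEtale Γ(Y, V) Γ(X, U)
    letI := X.presheaf.algebra_section_stalk (⟨x, hxU⟩ : U)
    have hloc := hU.isLocalization_stalk ⟨x, hxU⟩
    exact isReduced_localizationPreserves (hU.primeIdealOf ⟨x, hxU⟩).asIdeal.primeCompl
      (X.presheaf.stalk x) hred
  exact isReduced_of_isReduced_stalk X

end Helper5.WEt
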