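import Mathlib

namespace Helper5.WEt
open TensorProduct

universe u
variable (A B : Type u) [CommRing A] [CommRing B] [Algebra A B]

section
variable (N N' N'' : Type u) [AddCommGroup N] [Module B N] [Module A N] [IsScalarTower A B N]
  [AddCommGroup N'] [Module B N'] [Module A N'] [IsScalarTower A B N']
  [AddCommGroup N''] [Module B N''] [Module A N''] [IsScalarTower A B N'']

/-- the action of `B ⊗[A] B` on `N ⊗[A] N'` as algebra hom to End. -/
noncomputable def rho : (B ⊗[A] B) →ₐ[A] Module.End A (N ⊗[A] N') :=
  Algebra.TensorProduct.lift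
    ((Module.End.rTensorAlgHom A N N').comp (Algebra.lsmul A A N))
    ((Module.End.lTensorAlgHom A N' N).comp (Algebra.lsmul A A N'))
    (fun x y => by
      refine TensorProduct.ext' fun n n' => ?_
      rfl)

@[simp] lemma rho_tmul (b₁ b₂ : B) (n : N) (n' : N') :
    rho A B N N' (b₁ ⊗ₜ b₂) (n ⊗ₜ n') = (b₁ • n) ⊗ₜ (b₂ • n') := rfl

/-- `N ⊗[A] N'` as a module over `B ⊗[A] B`. -/
@[reducible] noncomputable def tmod : Module (B ⊗[A] B) (N ⊗[A] N') :=
  Module.compHom (N ⊗[A] N') (rho A B N N').toRingHom

lemma tmod_smul (t : B ⊗[A] B) (x : N ⊗[A] N') :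
    (letI := tmod A B N N'; t • x) = rho A B N N' t x := rfl

variable {N' N''} in
/-- `N ⊗ f` as a `B ⊗ B`-linear map. -/
noncomputable def gT (f : N' →ₗ[B] N'') :
    letI := tmod A B N N'; letI := tmod A B N N''
    (N ⊗[A] N') →ₗ[B ⊗[A] B] (N ⊗[A] N'') :=
  letI := tmod A B N N'; letI := tmod A B N N''
  { toFun := (f.restrictScalars A).lTensor N
    map_add' := map_add _
    map_smul' := fun t x => by
      simp only [RingHom.id_apply, tmod_smul]
      induction t using TensorProduct.induction_on with
      | zero => simp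
      | add t₁ t₂ h₁ h₂ => simp only [map_add, LinearMap.add_apply, h₁, h₂]
      | tmul b₁ b₂ =>
        induction x using TensorProduct.induction_on with
        | zero => simp
        | add x₁ x₂ h₁ h₂ => simp only [map_add, h₁, h₂]
        | tmul n n' => simp }

/-- `B` as an algebra over `B ⊗[A] B` through multiplication. -/
@[reducible] noncomputable def mulAlg : Algebra (B ⊗[A] B) B :=
  (Algebra.TensorProduct.lmul' A (S := B)).toRingHom.toAlgebra

lemma mulAlg_smul (t : B ⊗[A] B) (b : B) :
    (letI := mulAlg A B; t • b) = Algebra.TensorProduct.lmul' A t * b := rfl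

/-- `n ⊗ n' ↦ 1 ⊗ (n ⊗ n')`. -/
noncomputable def psi :
    letI := tmod A B N N'; letI := mulAlg A B
    N ⊗[B] N' →+ B ⊗[B ⊗[A] B] (N ⊗[A] N') :=
  letI := tmod A B N N'; letI := mulAlg A B
  TensorProduct.liftAddHom
    { toFun := fun n =>
        { toFun := fun n' => (1 : B) ⊗ₜ[B ⊗[A] B] (n ⊗ₜ[A] n')
          map_zero' := by simp
          map_add' := fun x y => by simp [tmul_add] }
      map_zero' := by ext; simp
      map_add' := fun x y => by ext; simp [add_tmul, tmul_add] }
    (fun b n n' => by
      simp only [AddMonoidHom.coe_mk, ZeroHom.coe_mk]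
      have h1 : (b • n) ⊗ₜ[A] n' = ((b ⊗ₜ[A] (1 : B)) : B ⊗[A] B) • (n ⊗ₜ[A] n') := by
        rw [tmod_smul, rho_tmul, one_smul]
      have h2 : n ⊗ₜ[A] (b • n') = (((1 : B) ⊗ₜ[A] b) : B ⊗[A] B) • (n ⊗ₜ[A] n') := by
        rw [tmod_smul, rho_tmul, one_smul]
      rw [h1, h2, ← TensorProduct.smul_tmul, ← TensorProduct.smul_tmul, mulAlg_smul, mulAlg_smul]
      simp)

lemma psi_tmul (n : N) (n' : N') :
    letI := tmod A B N N'; letI := mulAlg A B
    psi A B N N' (n ⊗ₜ n') = (1 : B) ⊗ₜ[B ⊗[A] B] (n ⊗ₜ[A] n') := rfl

/-- `b ⊗ (n ⊗ n') ↦ b • (n ⊗ n')`. -/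
noncomputable def phi :
    letI := tmod A B N N'; letI := mulAlg A B
    B ⊗[B ⊗[A] B] (N ⊗[A] N') →+ N ⊗[B] N' :=
  letI := tmod A B N N'; letI := mulAlg A B
  TensorProduct.liftAddHom
    { toFun := fun b =>
        { toFun := fun x => b • (TensorProduct.mapOfCompatibleSMul B A A N N' x)
          map_zero' := by simp
          map_add' := fun x y => by simp }
      map_zero' := by ext; simp
      map_add' := fun x y => by ext; simp [add_smul] }
    (fun t b x => by
      simp only [AddMonoidHom.coe_mk, ZeroHom.coe_mk, mulAlg_smul, tmod_smul]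
      induction t using TensorProduct.induction_on with
      | zero => simp
      | add t₁ t₂ h₁ h₂ => simp only [map_add, LinearMap.add_apply, add_mul, add_smul, smul_add, h₁, h₂]
      | tmul b₁ b₂ =>
        induction x using TensorProduct.induction_on with
        | zero => simp
        | add x₁ x₂ h₁ h₂ => simp only [map_add, smul_add, h₁, h₂]
        | tmul n n' =>
          simp only [Algebra.TensorProduct.lmul'_apply_tmul, rho_tmul,
            TensorProduct.mapOfCompatibleSMul_tmul]
          rw [← TensorProduct.smul_tmul' b₁, TensorProduct.tmul_smul b₂, smul_smul, smul_smul]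
          congr 1; ring)

lemma phi_tmul (b : B) (x : N ⊗[A] N') :
    letI := tmod A B N N'; letI := mulAlg A B
    phi A B N N' (b ⊗ₜ x) = b • (TensorProduct.mapOfCompatibleSMul B A A N N' x) := rfl

lemma phi_psi (x : N ⊗[B] N') : phi A B N N' (psi A B N N' x) = x := by
  induction x using TensorProduct.induction_on with
  | zero => simp
  | add x y hx hy => simp only [map_add, hx, hy]
  | tmul n n' =>
    rw [psi_tmul, phi_tmul, TensorProduct.mapOfCompatibleSMul_tmul, one_smul]

variable {N' N''} in
lemma psi_natural (f : N' →ₗ[B] N'') (x : N ⊗[B] N') :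
    letI := tmod A B N N'; letI := tmod A B N N''; letI := mulAlg A B
    psi A B N N'' (f.lTensor N x) = (gT A B N f).lTensor B (psi A B N N' x) := by
  induction x using TensorProduct.induction_on with
  | zero => simp
  | add x y hx hy => simp only [map_add, hx, hy]
  | tmul n n' =>
    rw [LinearMap.lTensor_tmul, psi_tmul, psi_tmul, LinearMap.lTensor_tmul]
    rfl

end

/-- Stacks 092C: if `B ⊗[A] B → B` is flat, a `B`-module flat over `A` is flat over `B`. -/
theorem flat_of_flat_lmul' (h : (Algebra.TensorProduct.lmul' A (S := B)).Flat)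
    (N : Type u) [AddCommGroup N] [Module B N] [Module A N]
    [IsScalarTower A B N] [Module.Flat A N] : Module.Flat B N := by
  rw [Module.Flat.iff_lTensor_preserves_injective_linearMap]
  intro N' N'' _ _ _ _ f hf
  let : Module A N' := Module.compHom N' (algebraMap A B)
  haveI : IsScalarTower A B N' := IsScalarTower.of_compHom A B N'
  letI : Module A N'' := Module.compHom N'' (algebraMap A B)
  haveI : IsScalarTower A B N'' := IsScalarTower.of_compHom A B N''
  letI := tmod A B N N'
  letI := tmod A B N N''
  letI := mulAlg A B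
  have hflat : Module.Flat (B ⊗[A] B) B := h
  have hg : Function.Injective (gT A B N f) :=
    Module.Flat.lTensor_preserves_injective_linearMap (M := N) (f.restrictScalars A) hf
  have hBg : Function.Injective ((gT A B N f).lTensor B) :=
    Module.Flat.lTensor_preserves_injective_linearMap _ hg
  rw [injective_iff_map_eq_zero]
  intro x hx
  have h1 : (gT A B N f).lTensor B (psi A B N N' x) = 0 := by
    rw [← psi_natural, hx, map_zero]
  have h2 : psi A B N N' x = 0 := by
    apply hBg; rw [h1, map_zero]
  rw [← phi_psi A B N N' x, h2, map_zero]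

/-- Flatness over an epimorphic image. -/
theorem flat_of_isEpi (R R' T : Type*) [CommRing R] [CommRing R'] [Algebra R R']
    [Algebra.IsEpi R R'] [AddCommGroup T] [Module R T] [Module R' T] [IsScalarTower R R' T]
    [Module.Flat R T] : Module.Flat R' T :=
  Module.Flat.of_linearEquiv (TensorProduct.lid' R R' T).symm

theorem ringHom_flat_of_comp_surjective {R R' T : Type*} [CommRing R] [CommRing R'] [CommRing T]
    (φ : R →+* R') (hφ : Function.Surjective φ) (ψ : R' →+* T) (h : (ψ.comp φ).Flat) :
    ψ.Flat := by
  algebraize [φ, ψ, ψ.comp φ]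
  have : Algebra.IsEpi R R' := Algebra.isEpi_of_surjective_algebraMap R R' hφ
  exact flat_of_isEpi R R' T

/-- S7127 -/
theorem weaklyEtale_of_algHom (A B C : Type u) [CommRing A] [CommRing B] [CommRing C]
    [Algebra A B] [Algebra A C] [Algebra B C] [IsScalarTower A B C] [Algebra.WeaklyEtale A B]
    [Algebra.WeaklyEtale A C] : Algebra.WeaklyEtale B C where
  flat := flat_of_flat_lmul' A B (Algebra.WeaklyEtale.flat_lmul' A B) C
  flat_lmul' := by
    have h := Algebra.WeaklyEtale.flat_lmul' A C
    have hs := Algebra.TensorProduct.mapOfCompatibleSMul_surjective B A A C C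
    refine ringHom_flat_of_comp_surjective (Algebra.TensorProduct.mapOfCompatibleSMul B A A C C).toRingHom hs _ ?_
    have e : ((Algebra.TensorProduct.lmul' B (S := C)).toRingHom.comp
        (Algebra.TensorProduct.mapOfCompatibleSMul B A A C C).toRingHom) =
        (Algebra.TensorProduct.lmul' A (S := C)).toRingHom := by
      refine RingHom.ext fun x => ?_
      induction x using TensorProduct.induction_on with
      | zero => simp
      | add x y hx hy => simp only [map_add, hx, hy]
      | tmul c c' => simp
    rw [← e] at h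
    exact h

theorem isEpi_of_isLocalization {R : Type*} [CommRing R] (M : Submonoid R) (S : Type*) [CommRing S]
    [Algebra R S] [IsLocalization M S] : Algebra.IsEpi R S := by
  refine (Algebra.isEpi_iff_forall_one_tmul_eq R S).mpr fun x => ?_
  obtain ⟨r, s, rfl⟩ := IsLocalization.exists_mk'_eq M x
  have h1 : (1 : S) = (s : R) • IsLocalization.mk' S (1 : R) s := by
    rw [Algebra.smul_def, mul_comm, IsLocalization.mk'_spec]; simp
  have h2 : (s : R) • IsLocalization.mk' S r s = r • (1 : S) := by
    rw [Algebra.smul_def, mul_comm, IsLocalization.mk'_spec, Algebra.smul_def, mul_one]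
  have h3 : r • IsLocalization.mk' S (1 : R) s = IsLocalization.mk' S r s := by
    rw [Algebra.smul_def, IsLocalization.mul_mk'_eq_mk'_of_mul, mul_one]
  calc (1 : S) ⊗ₜ[R] IsLocalization.mk' S r s
      = ((s : R) • IsLocalization.mk' S (1 : R) s) ⊗ₜ[R] IsLocalization.mk' S r s := by rw [← h1]
    _ = IsLocalization.mk' S (1 : R) s ⊗ₜ[R] ((s : R) • IsLocalization.mk' S r s) := by
        rw [TensorProduct.smul_tmul]
    _ = IsLocalization.mk' S (1 : R) s ⊗ₜ[R] (r • (1 : S)) := by rw [h2]
    _ = (r • IsLocalization.mk' S (1 : R) s) ⊗ₜ[R] (1 : S) := by rw [TensorProduct.smul_tmul]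
    _ = IsLocalization.mk' S r s ⊗ₜ[R] 1 := by rw [h3]

theorem weaklyEtale_of_isEpi_of_flat (R S : Type*) [CommRing R] [CommRing S] [Algebra R S]
    [Algebra.IsEpi R S] [Module.Flat R S] : Algebra.WeaklyEtale R S where
  flat_lmul' := by
    refine RingHom.Flat.of_bijective ⟨?_, ?_⟩
    · have := Algebra.IsEpi.injective_lift_mul (R := R) (A := S)
      intro x y hxy
      apply this
      have e : ∀ z : S ⊗[R] S, (TensorProduct.lift (LinearMap.mul R S)) z =
          Algebra.TensorProduct.lmul' R (S := S) z := by
        intro z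
        induction z using TensorProduct.induction_on with
        | zero => simp
        | add x y hx hy => simp only [map_add, hx, hy]
        | tmul c c' => simp
      rw [e, e]; exact hxy
    · intro s; exact ⟨s ⊗ₜ 1, by simp⟩

theorem weaklyEtale_of_isLocalization {R : Type*} [CommRing R] (M : Submonoid R) (S : Type*)
    [CommRing S] [Algebra R S] [IsLocalization M S] : Algebra.WeaklyEtale R S := by
  have := isEpi_of_isLocalization M S
  have : Module.Flat R S := IsLocalization.flat S M
  exact weaklyEtale_of_isEpi_of_flat R S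

end Helper5.WEt
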