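import Groth.Agent.Lib.Helper5.WEt.Basic
import Groth.Agent.Lib.Helper5.FlatDesc.Basic

namespace Helper5.WEt
open TensorProduct

universe u

theorem s1164 (R S R' S' : Type u) [CommRing R] [CommRing S] [CommRing R'] [CommRing S']
    [IsLocalRing R] [IsLocalRing S] [IsLocalRing R'] [IsLocalRing S']
    [Algebra R S] [IsLocalHom (algebraMap R S)] [Algebra R R'] [IsLocalHom (algebraMap R R')]
    [Algebra S S'] [IsLocalHom (algebraMap S S')] [Algebra R' S'] [Algebra R S']
    [IsScalarTower R R' S'] [IsScalarTower R S S']
    (E : Type u) [CommRing E] [Algebra R E] [Algebra.Etale R E] (P : Ideal E) [P.IsPrime]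
    [Algebra E R'] [IsScalarTower R E R'] [IsLocalization.AtPrime R' P]
    (F : Type u) [CommRing F] [Algebra S F] [Algebra.Etale S F] (Q : Ideal F) [Q.IsPrime]
    [Algebra F S'] [IsScalarTower S F S'] [IsLocalization.AtPrime S' Q] :
    Module.Flat R S ↔ Module.Flat R' S' := by
  have hE : Algebra.WeaklyEtale E R' := weaklyEtale_of_isLocalization P.primeCompl R'
  have hRR' : Algebra.WeaklyEtale R R' := Algebra.WeaklyEtale.trans R E R'
  have hF : Module.Flat F S' := IsLocalization.flat S' Q.primeCompl
  have hSF : Module.Flat S F := inferInstance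
  have hSS' : Module.Flat S S' := Module.Flat.trans S F S'
  constructor
  · intro h
    have : Module.Flat R S' := Module.Flat.trans R S S'
    exact flat_of_flat_lmul' R R' (Algebra.WeaklyEtale.flat_lmul' R R') S'
  · intro h
    have : Module.Flat R S' := Module.Flat.trans R R' S'
    have : Module.FaithfullyFlat S S' := Module.FaithfullyFlat.of_flat_of_isLocalHom
    exact Helper5.FlatDesc.flat_of_faithfullyFlat_of_flat R S S'

end Helper5.WEt
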