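import Groth.Agent.Lib.Helper1.TorL
import Groth.Agent.Lib.Helper5.WEt.Basic
import Groth.Prelude.Def_DRing2

open CategoryTheory Limits Groth.Agent.Helper1.TorL

namespace Helper5.WEt
universe u

variable (A B : Type u) [CommRing A] [CommRing B] [Algebra A B]

theorem torDim_aux (hB : (Algebra.TensorProduct.lmul' A (S := B)).Flat) [Module.Flat A B] (d : ℕ) :
    ∀ (N : Type u) [AddCommGroup N] [Module B N] [Module A N] [IsScalarTower A B N],
      (∀ (Y : ModuleCat.{u} A) (p : ℕ), d < p → IsZero (T p (ModuleCat.of A N) Y)) →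
      ∀ (Y' : ModuleCat.{u} B) (p : ℕ), d < p → IsZero (T p (ModuleCat.of B N) Y') := by
  induction d with
  | zero =>
    intro N _ _ _ _ h Y' p hp
    have hflat : Module.Flat A N := by
      rw [flat_iff_tor_one_quotient]
      intro I _
      exact h _ 1 Nat.one_pos
    have : Module.Flat B N := flat_of_flat_lmul' A B hB N
    obtain ⟨n, rfl⟩ := Nat.exists_eq_succ_of_ne_zero hp.ne'
    exact isZero_tor_succ_of_flat (ModuleCat.of B N) Y' n
  | succ d ih =>
    intro N _ _ _ _ h Y' p hp
    let f : (N →₀ B) →ₗ[B] N := Finsupp.linearCombination B (id : N → N)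
    have hf : Function.Surjective f := Finsupp.linearCombination_id_surjective B N
    let K : Submodule B (N →₀ B) := LinearMap.ker f
    -- the sequence over A
    let SA : ShortComplex (ModuleCat.{u} A) :=
      ModuleCat.shortComplexOfCompEqZero (M := K) (N := N →₀ B) (L := N)
        (K.subtype.restrictScalars A) (f.restrictScalars A)
        (show (f.restrictScalars A) ∘ₗ (K.subtype.restrictScalars A) = 0 from
          LinearMap.ext fun x => x.2)
    have hSA : SA.ShortExact :=
      ModuleCat.shortComplex_shortExact _ (by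
          intro y
          constructor
          · intro hy; exact ⟨⟨y, hy⟩, rfl⟩
          · rintro ⟨x, rfl⟩; exact x.2)
        K.injective_subtype hf
    have hflat2 : Module.Flat A SA.X₂ := Module.Flat.trans A B (N →₀ B)
    -- Tor over A of K vanishes above d
    have hK : ∀ (Y : ModuleCat.{u} A) (q : ℕ), d < q → IsZero (T q (ModuleCat.of A K) Y) := by
      intro Y q hq
      obtain ⟨n, rfl⟩ := Nat.exists_eq_succ_of_ne_zero (Nat.ne_of_gt (Nat.lt_of_le_of_lt (Nat.zero_le d) hq))
      exact isZero_tor_X₁ SA hSA Y (n + 1) (h Y (n + 1 + 1) (by omega)) (isZero_tor_succ_of_flat _ _ n)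
    have hKB := ih K hK Y'
    -- shift over B
    obtain ⟨n, rfl⟩ : ∃ n, p = n + 2 := ⟨p - 2, by omega⟩
    rw [isZero_tor_succ_succ_iff N Y' n]
    exact hKB (n + 1) (by omega)

theorem s7131 [Algebra.WeaklyEtale A B] (d : ℕ)
    (hA : ∀ (M : Type u) [AddCommGroup M] [Module A M], DRing.HasTorDimLE A d M)
    (N : Type u) [AddCommGroup N] [Module B N] : DRing.HasTorDimLE B d N := by
  intro N' _ _ p hp
  letI : Module A N := Module.compHom N (algebraMap A B)
  haveI : IsScalarTower A B N := IsScalarTower.of_compHom A B N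
  have h := torDim_aux A B (Algebra.WeaklyEtale.flat_lmul' A B) d N (fun Y q hq => by
    have := hA N Y q hq
    exact ModuleCat.isZero_of_subsingleton _) (ModuleCat.of B N') p hp
  exact ModuleCat.subsingleton_of_isZero h

end Helper5.WEt
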